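import Cfsg.Agent.H941.Com.Tool
import Cfsg.Agent.QTNorm.SporJ4
import Cfsg.Agent.S0365

/-!
# S3842, S4094, S4095: `J₄`, inner elements, `p = 2` (helper941)

`N(E) = 2^11.M₂₄` contains the normalizer of a Sylow 2-subgroup, so `x ∈ E`, `x² = 1`.
-/

set_option autoImplicit false

namespace Cfsg.Agent.H941.Com

open Subgroup Cfsg
open Cfsg.Agent.H509.TwoFrame
open Cfsg.Agent.J4Type Cfsg.Agent.QTNorm.JFour

universe u

/-- **`J₄`** -/
theorem inrow_j4 {S : Type u} [Group S] [Finite S] (h : Cfsg.Spor.IsoJ4 S) {x : S}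
    (C : Ctx 2 (⊤ : Subgroup S) x) (hx : 2 ∣ orderOf x) : False := by
  obtain ⟨-, -, ⟨F⟩⟩ := KFacts.J4.Base.exists_full h
  set Fr := F.C.toFrame with hFr
  obtain ⟨n, k, hk, hn⟩ := exists_pow hx
  obtain ⟨S', hSD, h2, hcard, hE, hQ⟩ := exists_S Fr
  have h3 := self Fr hSD hE hQ hcard
  obtain ⟨T, hT⟩ := exists_sylow_eq h2 h3
  have hND : normalizer ((T : Subgroup S) : Set S) ≤ normalizer (Fr.E hex0 : Set S) := by
    rw [hT]
    exact h3.trans (hSD.trans inf_le_left)
  obtain ⟨y, -, Cy, hy, -, -⟩ := C.exists_local hk hn hND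
  have hEp : IsPGroup 2 (Fr.E hex0) := fun a => ⟨1, Subtype.ext (by
    have := (Fr.E_elem hex0 HexStab.isHex_hex0).1 a a.2
    simpa [pow_two] using this)⟩
  have hE1 : Fr.E hex0 ≠ ⊥ := by
    intro h1
    have h4 := Fr.E_card hex0 HexStab.isHex_hex0
    rw [h1, card_bot] at h4
    norm_num at h4
  have hDt := Cy.normalizer_ne_top hEp hE1
  have hna : ¬ IsMulCommutative M24 := by
    intro h1
    have hs : IsSimpleGroup M24 := Cfsg.Agent.S0365.result
    have h2 : Nat.card M24 = 244823040 := SporadicA.M24Trans.card_M24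
    let _ : CommGroup M24 := { (inferInstance : Group M24) with mul_comm := h1.is_comm.comm }
    have h3 : (Nat.card M24).Prime := IsSimpleGroup.prime_card
    rw [h2] at h3
    exact absurd h3 (by norm_num)
  have h4 := mem_ker Cy hy hDt Cfsg.Agent.S0365.result hna Fr.π Fr.π_surj
  have h5 := (Fr.π_ker _).1 h4
  exact sq_ne_one Cy ((Fr.E_elem hex0 HexStab.isHex_hex0).1 _ h5)

end Cfsg.Agent.H941.Com
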