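import Cfsg.Agent.H941.Com.Tool
import Cfsg.Agent.KFacts.J3
import Cfsg.Agent.H72.ModelFacts

/-!
# S3842, S4094, S4095: `J₃`, inner elements, `p = 2` (helper941)

`C(z) = 2^{1+4}.A₅`, so `x ∈ C(z)` lies in `O₂(C(z)) = Q`. Every involution is conjugate to `z`; if `x² = z`, take a
conjugate `t` of `z` in `C_Q(x)`.
-/

set_option autoImplicit false

namespace Cfsg.Agent.H941.Com

open Subgroup Cfsg
open Cfsg.Agent.H509.TwoFrame
open Cfsg.Agent.J2Type.Model Cfsg.Agent.J2Type.CStruct Cfsg.Agent.J3Type.OneClass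

universe u

variable {G : Type u} [Group G] [Finite G] {L : Subgroup G} {x z : G}

theorem mem_Q (C : Ctx 2 L x) {Q : Subgroup (centralizer ({z} : Set G))}
    {v : Fin 5 → centralizer ({z} : Set G)} {ρ : centralizer ({z} : Set G) →* SP} (M : IsModel Q (zc z) v ρ)
    (hx : x * z = z * x) : (⟨x, mem_centralizer_singleton_iff.2 hx⟩ : centralizer ({z} : Set G)) ∈ Q := by
  have hz : z ≠ 1 := fun h => M.z_ne (Subtype.ext h)
  have hzz : z * z = 1 := congrArg Subtype.val M.z_sq
  have h1 : IsSimpleGroup (alternatingGroup (Fin 5)) := alternatingGroup.isSimpleGroup (by simp)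
  have h2 : ¬ IsMulCommutative (alternatingGroup (Fin 5)) := by
    intro h
    have h3 := h.is_comm.comm
      (⟨Equiv.swap 0 1 * Equiv.swap 0 2, Equiv.Perm.mem_alternatingGroup.2 (by decide)⟩ : alternatingGroup (Fin 5))
      (⟨Equiv.swap 0 1 * Equiv.swap 0 3, Equiv.Perm.mem_alternatingGroup.2 (by decide)⟩ : alternatingGroup (Fin 5))
    have h4 := congrArg Subtype.val h3
    revert h4
    decide
  have h3 := mem_ker C (mem_centralizer_singleton_iff.2 hx) (cent_ne_top C hzz hz) h1 h2
    (H72.ModelFacts.proj M) (H72.ModelFacts.proj_surj M)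
  rw [← H72.ModelFacts.proj_ker M]
  exact h3

theorem v_ne {C : Type*} [Group C] {Q : Subgroup C} {z : C} {v : Fin 5 → C} {ρ : C →* SP} (M : IsModel Q z v ρ)
    (i : Fin 5) : v i ≠ 1 ∧ v i ≠ z := by
  obtain ⟨j, hj⟩ : ∃ j : Fin 5, i ≠ j := by
    revert i; decide
  have h := M.v_anti i j hj
  constructor
  · intro h1
    rw [h1, one_mul, mul_one] at h
    exact M.z_ne (mul_eq_right.1 h.symm)
  · intro h1
    rw [h1, ← M.z_comm (v j), ← mul_assoc, ← M.z_comm (v j)] at h
    have h2 : v j * z = v j * z * z := h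
    exact M.z_ne (mul_eq_left.1 h2.symm)

/-- **`J₃`** -/
theorem inrow_j3 {S : Type u} [Group S] [Finite S] (h : Cfsg.Spor.IsoJ3 S) {x : S}
    (C : Ctx 2 (⊤ : Subgroup S) x) (hx : 2 ∣ orderOf x) : False := by
  obtain ⟨-, z, Q, v, ρ, n, u, F⟩ := KFacts.J3.exists_facts h
  have M := F.model
  have hz1 : z ≠ 1 := fun h => M.z_ne (Subtype.ext h)
  have hzz : z * z = 1 := congrArg Subtype.val M.z_sq
  obtain ⟨t, ht2, ht1, htx⟩ := exists_invol hx
  obtain ⟨g, hg⟩ := F.one t ht1 ht2
  -- a conjugate `y` of `x` commutes with `z`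
  set y := g⁻¹ * x * g with hy
  have Cy : Ctx 2 (⊤ : Subgroup S) y := by
    have := C.conj g⁻¹
    rwa [inv_inv] at this
  have hyz : y * z = z * y := by
    have : z = g⁻¹ * t * g := by rw [← hg]; group
    rw [hy, this]
    calc g⁻¹ * x * g * (g⁻¹ * t * g) = g⁻¹ * (x * t) * g := by group
      _ = _ := by rw [htx]; group
  have hyQ := mem_Q Cy M hyz
  set c : centralizer ({z} : Set S) := ⟨y, mem_centralizer_singleton_iff.2 hyz⟩ with hc
  rcases H72.ModelFacts.sq_mem M hyQ with h1 | h1
  · exact sq_ne_one Cy (congrArg Subtype.val h1)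
  · have h2 : y * y = z := congrArg Subtype.val h1
    -- `y` commutes with some `v i`
    obtain ⟨i, hi⟩ : ∃ i, (ρ c).s i = 0 := by
      by_contra hcon
      push Not at hcon
      have h3 := ((M.range (ρ c)).1 ⟨c, rfl⟩).2
      have h4 : ∀ i, (ρ c).s i = 1 := fun i => (zmod2_cases _).resolve_left (hcon i)
      rw [Finset.sum_congr rfl fun i _ => h4 i] at h3
      revert h3
      decide
    have h3 := M.conj c i
    rw [(M.mem_Q c).1 hyQ, hi, zp_zero, one_mul, Equiv.Perm.one_apply] at h3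
    have hv1 : (v i : S) ≠ 1 := fun h => (v_ne M i).1 (Subtype.ext h)
    have hvz : (v i : S) ≠ z := fun h => (v_ne M i).2 (Subtype.ext h)
    have hvv : (v i : S) * v i = 1 := congrArg Subtype.val (M.v_sq i)
    have hyv : y * v i = v i * y := by
      have := congrArg Subtype.val (mul_inv_eq_iff_eq_mul.1 h3)
      exact this
    obtain ⟨k, hk⟩ := F.one _ hv1 hvv
    set w := k⁻¹ * y * k with hw
    have Cw : Ctx 2 (⊤ : Subgroup S) w := by
      have := Cy.conj k⁻¹
      rwa [inv_inv] at this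
    have hwz : w * z = z * w := by
      have : z = k⁻¹ * v i * k := by rw [← hk]; group
      rw [hw, this]
      calc k⁻¹ * y * k * (k⁻¹ * v i * k) = k⁻¹ * (y * v i) * k := by group
        _ = _ := by rw [hyv]; group
    have hwQ := mem_Q Cw M hwz
    have hww : w * w = k⁻¹ * z * k := by
      rw [← h2, hw]; group
    rcases H72.ModelFacts.sq_mem M hwQ with h5 | h5
    · exact sq_ne_one Cw (congrArg Subtype.val h5)
    · have h6 : w * w = z := congrArg Subtype.val h5
      rw [h6] at hww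
      apply hvz
      rw [← hk]
      conv_lhs => rw [hww]
      group

end Cfsg.Agent.H941.Com
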