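import Cfsg.Agent.H509.TwoFrame
import Cfsg.Agent.Involutions.BaerSuzuki

/-!
# S3842, S4094, S4095: tools (helper941)
-/

set_option autoImplicit false

namespace Cfsg.Agent.H941.Com

open Subgroup Cfsg
open Cfsg.Agent.H472.ComRed (cm cm_eq cm_eq' cm_eq_one cm_mem cm_mem_left map_cm)
open Cfsg.Agent.Lib.Cores Cfsg.Agent.H509.TwoFrame

universe u

variable {G : Type u} [Group G] [Finite G] {p : ℕ} {L : Subgroup G} {x : G}

/-- a homomorphism of `D` onto a nonabelian simple group kills `O_p(D)` -/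
theorem core_le_ker {D M : Type*} [Group D] [Group M] (hM : IsSimpleGroup M) (hna : ¬ IsMulCommutative M) [Finite M]
    [hp : Fact p.Prime] (f : D →* M) (hf : Function.Surjective f) : pCore p D ≤ f.ker := by
  have hn : ((pCore p D).map f).Normal := (pCore_normal_inst (G := D) p).map f hf
  have hg : IsPGroup p ((pCore p D).map f) := (pCore_isPGroup p).map f
  rcases hM.eq_bot_or_eq_top_of_normal _ hn with h | h
  · rwa [Subgroup.map_eq_bot_iff] at h
  · exfalso
    apply hna
    rw [h] at hg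
    have h1 : IsPGroup p M := hg.of_equiv topEquiv
    have := hM.toNontrivial
    have h2 := h1.center_nontrivial
    have h3 : center M = ⊤ := by
      rcases hM.eq_bot_or_eq_top_of_normal (center M) inferInstance with h | h
      · rw [h] at h2
        exact absurd h2 (not_nontrivial _)
      · exact h
    exact ⟨⟨fun a b => (mem_center_iff.1 (show b ∈ center M by rw [h3]; trivial) a)⟩⟩

/-- **`x` lies in the kernel of every homomorphism of a proper subgroup `D` onto a nonabelian simple group.** -/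
theorem mem_ker [hp : Fact p.Prime] (C : Ctx p L x) {D : Subgroup G} (hx : x ∈ D) (hD : D ≠ ⊤) {M : Type*} [Group M] (hM : IsSimpleGroup M)
    (hna : ¬ IsMulCommutative M) (f : D →* M) (hf : Function.Surjective f) : f ⟨x, hx⟩ = 1 := by
  have : Finite M := Finite.of_surjective f hf
  have h1 := core_le_ker (p := p) hM hna f hf
  have h2 : f ⟨x, hx⟩ ∈ center M := by
    rw [mem_center_iff]
    intro m
    obtain ⟨d, rfl⟩ := hf m
    obtain ⟨c, hc, hc'⟩ := C.ind D hx hD d d.2
    have h3 : c = cm (⟨x, hx⟩ : D) d := Subtype.ext hc'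
    have h4 : f (cm (⟨x, hx⟩ : D) d) = 1 := by
      rw [← h3]
      exact h1 hc
    rw [map_cm] at h4
    exact (cm_eq_one.1 h4).symm
  have h3 : center M = ⊥ := by
    rcases hM.eq_bot_or_eq_top_of_normal (center M) inferInstance with h | h
    · exact h
    · exact absurd ⟨⟨fun a b => (mem_center_iff.1 (show b ∈ center M by rw [h]; trivial) a)⟩⟩ hna
  rw [h3] at h2
  exact h2

/-- **Baer–Suzuki**: `x` is not an involution. -/
theorem sq_ne_one (C : Ctx 2 L x) : x * x ≠ 1 := by
  intro h
  have hO : ¬ IsPGroup 2 (normalClosure {x} : Subgroup G) := by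
    intro h1
    have h2 := C.eq_bot_of_normal (q := 2) (normalClosure_normal (s := {x})) h1
    exact C.ne (by
      have : x ∈ normalClosure {x} := subset_normalClosure rfl
      rwa [h2, mem_bot] at this)
  obtain ⟨y, hy1, hyo, hy⟩ := Cfsg.Agent.Involutions.BaerSuzuki.exists_odd_inverted x h hO
  -- `[x, y⁻¹] = y²`
  have hxi : x⁻¹ = x := inv_eq_of_mul_eq_one_right h
  have h1 : cm x y = y * y ∨ cm x y = (y * y)⁻¹ ∨ True := Or.inr (Or.inr trivial)
  have h2 : cm x y⁻¹ = y⁻¹ * y⁻¹ ∨ cm x y⁻¹ = y * y := by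
    left
    have e : x * y * x = y⁻¹ := by rw [← hy, hxi]
    simp only [cm]
    rw [hxi, inv_inv, e]
  have hodd : Odd (orderOf (y * y)) := by
    rw [← pow_two]
    exact Odd.of_dvd_nat hyo (orderOf_pow_dvd 2)
  have hne : y * y ≠ 1 := by
    intro h3
    apply hy1
    have h4 : orderOf y ∣ 2 := orderOf_dvd_of_pow_eq_one (by rw [pow_two, h3])
    have h5 : orderOf y = 1 := by
      rcases (Nat.dvd_prime Nat.prime_two).1 h4 with h5 | h5
      · exact h5
      · rw [h5] at hyo
        exact absurd hyo (by decide)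
    exact orderOf_eq_one_iff.1 h5
  rcases C.bad y⁻¹ with h3 | h3
  · rcases h2 with h4 | h4
    · rw [h3] at h4
      exact hne (by rw [← inv_eq_one, mul_inv_rev, ← h4])
    · rw [h3] at h4
      exact hne h4.symm
  · rcases h2 with h4 | h4
    · rw [h4, ← mul_inv_rev, orderOf_inv] at h3
      exact (Nat.not_even_iff_odd.2 hodd) (even_iff_two_dvd.2 h3)
    · rw [h4] at h3
      exact (Nat.not_even_iff_odd.2 hodd) (even_iff_two_dvd.2 h3)

/-- the centralizer of an element `t ≠ 1` of order 2 is proper -/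
theorem cent_ne_top (C : Ctx 2 L x) {t : G} (ht : t * t = 1) (ht1 : t ≠ 1) : centralizer ({t} : Set G) ≠ ⊤ := by
  intro h
  have h1 : ∀ g : G, g * t = t * g := fun g => mem_centralizer_singleton_iff.1 (by rw [h]; trivial)
  have h2 : (zpowers t).Normal := by
    refine ⟨fun n hn g => ?_⟩
    obtain ⟨m, rfl⟩ := hn
    refine ⟨m, ?_⟩
    show t ^ m = g * t ^ m * g⁻¹
    have h3 : Commute g (t ^ m) := Commute.zpow_right (h1 g) m
    rw [h3.eq]
    group
  have h3 : IsPGroup 2 (zpowers t) := by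
    rintro ⟨z, m, rfl⟩
    refine ⟨1, Subtype.ext ?_⟩
    show (t ^ m) ^ 2 ^ 1 = 1
    rw [pow_one, ← zpow_natCast, ← zpow_mul, mul_comm, zpow_mul]
    norm_cast
    rw [pow_two, ht, one_zpow]
  have h4 := C.eq_bot_of_normal (q := 2) h2 h3
  rw [zpowers_eq_bot] at h4
  exact ht1 h4

/-- an involution in `⟨x⟩` -/
theorem exists_invol (hx : 2 ∣ orderOf x) : ∃ t : G, t * t = 1 ∧ t ≠ 1 ∧ x * t = t * x := by
  have h0 : orderOf x ≠ 0 := (orderOf_pos x).ne'
  obtain ⟨m, hm⟩ := hx
  refine ⟨x ^ m, ?_, ?_, ?_⟩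
  · rw [← pow_add, ← two_mul, ← hm, pow_orderOf_eq_one]
  · intro h
    have h1 := Nat.le_of_dvd (Nat.pos_of_ne_zero (by rintro rfl; exact h0 (by rw [hm, mul_zero])))
      (orderOf_dvd_of_pow_eq_one h)
    omega
  · exact (Commute.refl x).pow_right m

end Cfsg.Agent.H941.Com
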